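import Mathlib.RingTheory.MvPolynomial.EulerIdentity
import Mathlib.RingTheory.Filtration
import Mathlib.RingTheory.Derivation.Basic
import Mathlib.LinearAlgebra.FiniteDimensional.Defs
import Mathlib.LinearAlgebra.Dimension.Free
import Mathlib.Algebra.MvPolynomial.PDeriv
import Mathlib.RingTheory.Finiteness.Ideal
import Mathlib.RingTheory.Noetherian.Basic
import Mathlib.Tactic.LinearCombination

/-!
A Noetherian local algebra in characteristic zero with enough derivations is a domain
(its associated graded ring is a polynomial ring).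
-/

set_option autoImplicit false

universe u v

open MvPolynomial

namespace Groth.Agent.Cartier

variable {K : Type u} {A : Type v} [Field K] [CommRing A] [Algebra K A]

lemma derivation_aeval {ι : Type*} [Fintype ι] (D : Derivation K A A) (t : ι → A)
    (F : MvPolynomial ι K) :
    D (aeval t F) = ∑ i, aeval t (pderiv i F) * D (t i) := by
  classical
  induction F using MvPolynomial.induction_on with
  | C c => simp
  | add p q hp hq => simp [hp, hq, add_mul, Finset.sum_add_distrib]
  | mul_X p i hp =>
    simp only [map_mul, aeval_X, Derivation.leibniz, hp, smul_eq_mul, Finset.mul_sum, map_add,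
      pderiv_X, add_mul, Finset.sum_add_distrib]
    congr 1
    · rw [Finset.sum_eq_single i (fun j _ hj => by simp [Ne.symm hj]) (by simp)]
      simp
    · exact Finset.sum_congr rfl fun j _ => by ring

lemma derivation_mem_pow (D : Derivation K A A) (I : Ideal A) :
    ∀ (n : ℕ) (a : A), a ∈ I ^ (n + 1) → D a ∈ I ^ n := by
  intro n
  induction n with
  | zero => intro a _; simp
  | succ n ih =>
    intro a ha
    rw [pow_succ] at ha
    refine Submodule.mul_induction_on ha (fun x hx y hy => ?_) fun x y hx hy => by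
      rw [map_add]; exact add_mem hx hy
    rw [D.leibniz, smul_eq_mul, smul_eq_mul]
    refine add_mem (Ideal.mul_mem_right _ _ hx) ?_
    rw [pow_succ']
    exact Ideal.mul_mem_mul hy (ih x hx)

lemma aeval_mem_pow {ι : Type*} {t : ι → A} {I : Ideal A} (ht : ∀ i, t i ∈ I)
    {F : MvPolynomial ι K} {n : ℕ} (hF : F.IsHomogeneous n) : aeval t F ∈ I ^ n := by
  classical
  rw [F.as_sum, map_sum]
  refine Ideal.sum_mem _ fun d hd => ?_
  rw [aeval_monomial]
  refine Ideal.mul_mem_left _ _ ?_
  have hdn : d.degree = n := by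
    have := hF (MvPolynomial.mem_support_iff.1 hd)
    rwa [Finsupp.degree_eq_weight_one]
  rw [← hdn, Finsupp.prod, Finsupp.degree_apply, ← Finset.prod_pow_eq_pow_sum]
  exact Ideal.prod_mem_prod fun i _ => Ideal.pow_mem_pow (ht i) _

theorem isDomain_of_derivations [CharZero K] [IsNoetherianRing A] [IsLocalRing A]
    (ε : A →ₐ[K] K) (hε : ∀ a, a ∈ IsLocalRing.maximalIdeal A ↔ ε a = 0)
    (hder : ∀ l : A →ₗ[K] K, l 1 = 0 → (∀ a ∈ IsLocalRing.maximalIdeal A ^ 2, l a = 0) →
      ∃ D : Derivation K A A, ∀ a, ε (D a) = l a) :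
    IsDomain A := by
  classical
  set m := IsLocalRing.maximalIdeal A
  let P : A →ₗ[K] (m.restrictScalars K) :=
    LinearMap.codRestrict _ (LinearMap.id - (Algebra.linearMap K A).comp ε.toLinearMap)
      fun a => by simp [hε]
  let N : Submodule K (m.restrictScalars K) :=
    ((m ^ 2).restrictScalars K).comap (m.restrictScalars K).subtype
  have hP1 : P 1 = 0 := by ext; simp [P]
  have hPm : ∀ a ∈ m, (P a : A) = a := fun a ha => by simp [P, (hε a).1 ha]
  obtain ⟨s, hs⟩ := (IsNoetherian.noetherian m : m.FG)
  have hsm : ∀ a ∈ s, a ∈ m := fun a ha => hs ▸ Ideal.subset_span ha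
  -- the cotangent space is finite dimensional
  have : Module.Finite K ((m.restrictScalars K) ⧸ N) := by
    refine ⟨s.attach.image (fun a => N.mkQ ⟨a.1, hsm a.1 a.2⟩), ?_⟩
    rw [eq_top_iff]
    rintro x -
    obtain ⟨⟨a, ha⟩, rfl⟩ := N.mkQ_surjective x
    set W := Submodule.span K
      (↑(s.attach.image fun a => N.mkQ ⟨a.1, hsm a.1 a.2⟩) : Set ((m.restrictScalars K) ⧸ N))
    have key : ∀ b ∈ Submodule.span A (s : Set A), ∀ hb : b ∈ m,
        N.mkQ ⟨b, hb⟩ ∈ W := by
      intro b hb
      induction hb using Submodule.span_induction with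
      | mem y hy =>
        intro _
        exact Submodule.subset_span (Finset.mem_coe.2
          (Finset.mem_image.2 ⟨⟨y, hy⟩, Finset.mem_attach _ _, rfl⟩))
      | zero => intro _; exact W.zero_mem
      | add y z hy hz h₁ h₂ =>
        intro _
        have hy' : y ∈ m := hs ▸ hy
        have hz' : z ∈ m := hs ▸ hz
        exact W.add_mem (h₁ hy') (h₂ hz')
      | smul c y hy h =>
        intro hcy
        have hy' : y ∈ m := hs ▸ hy
        have : N.mkQ ⟨c • y, hcy⟩ = ε c • N.mkQ ⟨y, hy'⟩ := by
          rw [← map_smul, Submodule.mkQ_apply, Submodule.mkQ_apply, Submodule.Quotient.eq]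
          change c * y - ε c • y ∈ m ^ 2
          rw [Algebra.smul_def, ← sub_mul, pow_two]
          exact Ideal.mul_mem_mul (by simp [hε]) hy'
        rw [this]
        exact W.smul_mem _ (h hy')
    exact key a (hs ▸ ha) ha
  let b := Module.finBasis K ((m.restrictScalars K) ⧸ N)
  choose t ht using fun i => N.mkQ_surjective (b i)
  let tA : Fin _ → A := fun i => (t i : A)
  have htm : ∀ i, tA i ∈ m := fun i => (t i).2
  have hgen : ∀ a ∈ m, ∃ c : Fin _ → K, a - ∑ i, c i • tA i ∈ m ^ 2 := by
    intro a ha
    refine ⟨fun i => b.repr (N.mkQ ⟨a, ha⟩) i, ?_⟩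
    have h0 : N.mkQ (⟨a, ha⟩ - ∑ i, b.repr (N.mkQ ⟨a, ha⟩) i • t i) = 0 := by
      simp only [map_sub, map_sum, map_smul, ht, b.sum_repr, sub_self]
    rw [Submodule.mkQ_apply, Submodule.Quotient.mk_eq_zero] at h0
    simpa [N, tA] using h0
  have hdual : ∀ j, ∃ D : Derivation K A A, ∀ i, ε (D (tA i)) = if i = j then 1 else 0 := by
    intro j
    obtain ⟨D, hD⟩ := hder ((b.coord j).comp (N.mkQ.comp P)) (by simp [hP1]) fun a ha => by
      have : N.mkQ (P a) = 0 := by
        rw [Submodule.mkQ_apply, Submodule.Quotient.mk_eq_zero]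
        change (P a : A) ∈ m ^ 2
        rw [hPm a (Ideal.pow_le_self (by norm_num) ha)]
        exact ha
      simp [this]
    refine ⟨D, fun i => ?_⟩
    have : P (tA i) = t i := Subtype.ext (hPm _ (htm i))
    simp [hD, this, ht, Finsupp.single_apply]
  choose D hD using hdual
  -- every element of `m ^ n` has a leading form
  have lead : ∀ (n : ℕ) (a : A), a ∈ m ^ n →
      ∃ F : MvPolynomial (Fin _) K, F.IsHomogeneous n ∧ a - aeval tA F ∈ m ^ (n + 1) := by
    intro n
    induction n with
    | zero =>
      intro a _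
      exact ⟨C (ε a), isHomogeneous_C _ _, by simp [hε]⟩
    | succ n ih =>
      intro a ha
      rw [pow_succ] at ha
      refine Submodule.mul_induction_on ha (fun x hx y hy => ?_) ?_
      · obtain ⟨F, hF, hxF⟩ := ih x hx
        obtain ⟨c, hc⟩ := hgen y hy
        refine ⟨F * ∑ i, C (c i) * X i,
          hF.mul (IsHomogeneous.sum _ _ 1 fun i _ => (isHomogeneous_X _ i).C_mul _), ?_⟩
        have e : aeval tA (∑ i, C (c i) * X i) = ∑ i, c i • tA i := by
          simp [Algebra.smul_def]
        rw [map_mul, e]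
        have hl : ∑ i, c i • tA i ∈ m :=
          Ideal.sum_mem _ fun i _ => (m.restrictScalars K).smul_mem _ (htm i)
        have : x * y - aeval tA F * ∑ i, c i • tA i =
            x * (y - ∑ i, c i • tA i) + (x - aeval tA F) * ∑ i, c i • tA i := by ring
        rw [this]
        refine add_mem ?_ ?_
        · rw [show n + 1 + 1 = n + 2 from rfl, pow_add]
          exact Ideal.mul_mem_mul hx hc
        · rw [pow_succ]
          exact Ideal.mul_mem_mul hxF hl
      · rintro x y ⟨F, hF, hx⟩ ⟨G, hG, hy⟩
        refine ⟨F + G, hF.add hG, ?_⟩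
        rw [map_add, add_sub_add_comm]
        exact add_mem hx hy
  -- forms are independent
  have indep : ∀ (n : ℕ) (F : MvPolynomial (Fin _) K), F.IsHomogeneous n →
      aeval tA F ∈ m ^ (n + 1) → F = 0 := by
    intro n
    induction n with
    | zero =>
      intro F hF hm
      obtain ⟨c, rfl⟩ : ∃ c, F = C c :=
        ⟨coeff 0 F, totalDegree_eq_zero_iff_eq_C.1 (Nat.le_zero.1 hF.totalDegree_le)⟩
      rw [zero_add, pow_one, aeval_C, hε, AlgHom.commutes] at hm
      simp at hm
      simp [hm]
    | succ n ih =>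
      intro F hF hm
      have hd : ∀ j, pderiv j F = 0 := by
        intro j
        refine ih _ (by simpa using hF.pderiv) ?_
        have h₁ := derivation_mem_pow (D j) m (n + 1) _ hm
        rw [derivation_aeval] at h₁
        have hmem : ∀ i, aeval tA (pderiv i F) ∈ m ^ n := by
          intro i
          exact aeval_mem_pow htm (by simpa using hF.pderiv)
        have h₂ : ∀ i, aeval tA (pderiv i F) * D j (tA i) -
            (if i = j then aeval tA (pderiv i F) else 0) ∈ m ^ (n + 1) := by
          intro i
          have : D j (tA i) - (if i = j then 1 else 0) ∈ m := by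
            rw [hε, map_sub, hD]; split_ifs <;> simp
          rw [pow_succ]
          convert Ideal.mul_mem_mul (hmem i) this using 1
          split_ifs <;> ring
        have h₃ := sub_mem h₁ (Ideal.sum_mem _ fun i (_ : i ∈ Finset.univ) => h₂ i)
        simpa [Finset.sum_sub_distrib] using h₃
      have he := hF.sum_X_mul_pderiv
      simp only [hd, mul_zero, Finset.sum_const_zero] at he
      exact (smul_eq_zero.1 he.symm).resolve_left (by exact_mod_cast Nat.succ_ne_zero n)
  -- conclusion
  have krull : ∀ a : A, a ≠ 0 → ∃ (n : ℕ) (F : MvPolynomial (Fin _) K),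
      F ≠ 0 ∧ F.IsHomogeneous n ∧ a ∈ m ^ n ∧ a - aeval tA F ∈ m ^ (n + 1) := by
    intro a ha
    have : ∃ n, a ∉ m ^ n := by
      by_contra h
      push Not at h
      have : a ∈ ⨅ n, m ^ n := Ideal.mem_iInf.2 h
      rw [Ideal.iInf_pow_eq_bot_of_isLocalRing m (IsLocalRing.maximalIdeal.isMaximal A).ne_top]
        at this
      exact ha this
    have h0 : Nat.find this ≠ 0 := fun h => by simpa [h] using Nat.find_spec this
    obtain ⟨n, hn⟩ := Nat.exists_eq_succ_of_ne_zero h0
    have h1 : a ∈ m ^ n := by
      by_contra h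
      exact Nat.find_min this (by omega) h
    have h2 : a ∉ m ^ (n + 1) := by
      have := Nat.find_spec this
      rwa [hn] at this
    obtain ⟨F, hF, hFa⟩ := lead n a h1
    refine ⟨n, F, fun h => ?_, hF, h1, hFa⟩
    rw [h, map_zero, sub_zero] at hFa
    exact h2 hFa
  refine (isDomain_iff_noZeroDivisors_and_nontrivial A).2 ⟨⟨fun {a b} hab => ?_⟩, inferInstance⟩
  by_contra h
  push Not at h
  obtain ⟨p, F, hF0, hF, ha, haF⟩ := krull a h.1
  obtain ⟨q, G, hG0, hG, hb, hbG⟩ := krull b h.2
  have hFm : aeval tA F ∈ m ^ p := by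
    have := sub_mem ha (Ideal.pow_le_pow_right p.le_succ haF)
    simpa using this
  have : aeval tA (F * G) ∈ m ^ (p + q + 1) := by
    have e : aeval tA (F * G) =
        -((a - aeval tA F) * b + aeval tA F * (b - aeval tA G)) := by
      rw [map_mul]; linear_combination hab
    rw [e]
    refine neg_mem (add_mem ?_ ?_)
    · rw [show p + q + 1 = p + 1 + q by omega, pow_add]; exact Ideal.mul_mem_mul haF hb
    · rw [show p + q + 1 = p + (q + 1) by omega, pow_add]; exact Ideal.mul_mem_mul hFm hbG
  exact mul_ne_zero hF0 hG0 (indep _ _ (hF.mul hG) this)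

end Groth.Agent.Cartier
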