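import Groth.Agent.Cartier.Alg
import Groth.Agent.GrpSch.FieldTop
import Mathlib.RingTheory.DualNumber
import Mathlib.AlgebraicGeometry.Noetherian
import Mathlib.AlgebraicGeometry.AlgClosed.Basic

/-! Cartier: the local ring at the identity of a group scheme in characteristic zero is a domain. -/

set_option autoImplicit false

universe u

open CategoryTheory MonoidalCategory CartesianMonoidalCategory MonObj GrpObj Limits AlgebraicGeometry
  TrivSqZeroExt

namespace Groth.Agent.Cartier

lemma isLocalRing_dualNumber (A : Type u) [CommRing A] [IsLocalRing A] :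
    IsLocalRing (DualNumber A) :=
  IsLocalRing.of_isUnit_or_isUnit_one_sub_self fun a => by
    rw [TrivSqZeroExt.isUnit_iff_isUnit_fst, TrivSqZeroExt.isUnit_iff_isUnit_fst]
    simpa using IsLocalRing.isUnit_or_isUnit_one_sub_self (TrivSqZeroExt.fst a)

/-- The map of dual numbers induced by a ring map. -/
def dualMap {A B : Type u} [CommRing A] [CommRing B] (f : A →+* B) :
    DualNumber A →+* DualNumber B where
  toFun x := (f x.fst, f x.snd)
  map_one' := TrivSqZeroExt.ext (f.map_one) (f.map_zero)
  map_mul' x y := by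
    apply TrivSqZeroExt.ext
    · exact f.map_mul _ _
    · change f (x * y).snd = f x.fst • f y.snd + MulOpposite.op (f y.fst) • f x.snd
      simp [mul_comm]
  map_zero' := TrivSqZeroExt.ext f.map_zero f.map_zero
  map_add' x y := TrivSqZeroExt.ext (f.map_add _ _) (f.map_add _ _)

@[simp] lemma fst_dualMap {A B : Type u} [CommRing A] [CommRing B] (f : A →+* B)
    (x : DualNumber A) : (dualMap f x).fst = f x.fst := rfl

@[simp] lemma snd_dualMap {A B : Type u} [CommRing A] [CommRing B] (f : A →+* B)
    (x : DualNumber A) : (dualMap f x).snd = f x.snd := rfl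

lemma exists_factor {X : Scheme.{u}} {R : CommRingCat.{u}} [IsLocalRing R] (f : Spec R ⟶ X)
    (x : X) (h : f (IsLocalRing.closedPoint R) = x) :
    ∃ ψ : X.presheaf.stalk x ⟶ R, Spec.map ψ ≫ X.fromSpecStalk x = f ∧ IsLocalHom ψ.hom := by
  subst h
  exact ⟨Scheme.stalkClosedPointTo f, Scheme.Spec_stalkClosedPointTo_fromSpecStalk f,
    inferInstance⟩

/-- A morphism from the spectrum of a `K`-algebra, as an object over `Spec K`. -/
noncomputable abbrev specOver {K : Type u} [Field K] (B : Type u) [CommRing B] [Algebra K B] :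
    Over (Spec (CommRingCat.of K)) :=
  Over.mk (Spec.map (CommRingCat.ofHom (algebraMap K B)))

/-- The morphism of spectra induced by an algebra map. -/
noncomputable abbrev specOverMap {K : Type u} [Field K] {B C : Type u} [CommRing B] [Algebra K B]
    [CommRing C] [Algebra K C] (f : B →ₐ[K] C) : specOver (K := K) C ⟶ specOver (K := K) B :=
  Over.homMk (Spec.map (CommRingCat.ofHom f.toRingHom)) (by
    change Spec.map _ ≫ Spec.map _ = Spec.map _
    rw [← Spec.map_comp, ← CommRingCat.ofHom_comp]
    congr 2
    exact f.comp_algebraMap)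

theorem isDomain_stalk_one {K : Type u} [Field K] [CharZero K]
    (G : Over (Spec (CommRingCat.of K))) [GrpObj G] [LocallyOfFiniteType G.hom] :
    IsDomain (G.left.presheaf.stalk (η[G].left (IsLocalRing.closedPoint K))) := by
  set e := η[G].left (IsLocalRing.closedPoint K)
  obtain ⟨A, hA⟩ : ∃ A, A = G.left.presheaf.stalk e := ⟨_, rfl⟩
  suffices IsDomain A by rw [← hA]; exact this
  subst hA
  set A := G.left.presheaf.stalk e
  have : IsLocallyNoetherian G.left := LocallyOfFiniteType.isLocallyNoetherian G.hom
  have : IsNoetherianRing A := inferInstance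
  -- the algebra structure
  obtain ⟨φ, hφ⟩ := Spec.map_surjective (G.left.fromSpecStalk e ≫ G.hom)
  let _ : Algebra K A := φ.hom.toAlgebra
  let g : specOver (K := K) A ⟶ G := Over.homMk (G.left.fromSpecStalk e) hφ.symm
  -- the rational point
  obtain ⟨ε₀, hε₀, hεloc⟩ := exists_factor (R := CommRingCat.of K) η[G].left e rfl
  have hφε : φ ≫ ε₀ = 𝟙 _ := Spec.map_injective (by
    rw [Spec.map_comp, hφ, ← Category.assoc, hε₀, Spec.map_id]
    exact Over.w η[G])
  let ε : A →ₐ[K] K :=
    { ε₀.hom with commutes' := fun c => congr($hφε c) }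
  have hε : ∀ a, a ∈ IsLocalRing.maximalIdeal A ↔ ε a = 0 := by
    intro a
    have : IsUnit (ε₀.hom a) ↔ IsUnit a := isUnit_map_iff ε₀.hom a
    rw [IsLocalRing.mem_maximalIdeal, mem_nonunits_iff, ← this, isUnit_iff_ne_zero, not_not]
    rfl
  refine isDomain_of_derivations ε hε fun l hl1 hl2 => ?_
  -- the tangent vector
  let lam₀ : A →+* DualNumber K :=
    { toFun := fun a => (ε a, l a)
      map_one' := TrivSqZeroExt.ext (map_one ε) hl1
      map_mul' := fun a b => by
        apply TrivSqZeroExt.ext
        · exact map_mul ε a b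
        · change l (a * b) = ε a • l b + MulOpposite.op (ε b) • l a
          have : (a - algebraMap K A (ε a)) * (b - algebraMap K A (ε b)) ∈
              IsLocalRing.maximalIdeal A ^ 2 := by
            rw [pow_two]
            exact Ideal.mul_mem_mul (by simp [hε]) (by simp [hε])
          have h := hl2 _ this
          have e : (a - algebraMap K A (ε a)) * (b - algebraMap K A (ε b)) =
              a * b - ε a • b - ε b • a + (ε a * ε b) • (1 : A) := by
            simp only [Algebra.smul_def, map_mul]; ring
          rw [e] at h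
          simp only [map_add, map_sub, map_smul, hl1, smul_zero, add_zero, sub_sub,
            sub_eq_zero] at h
          simp [h, smul_eq_mul, mul_comm]
      map_zero' := TrivSqZeroExt.ext (map_zero ε) (map_zero l)
      map_add' := fun a b => TrivSqZeroExt.ext (map_add ε a b) (map_add l a b) }
  let lam : A →ₐ[K] DualNumber K :=
    { lam₀ with
      commutes' := fun c => by
        apply TrivSqZeroExt.ext
        · exact ε.commutes c
        · change l (algebraMap K A c) = 0
          rw [Algebra.algebraMap_eq_smul_one, map_smul, hl1, smul_zero] }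
  -- test schemes
  let p : A →ₐ[K] DualNumber A := (TrivSqZeroExt.inlAlgHom K A A)
  let r : DualNumber A →ₐ[K] A := (TrivSqZeroExt.fstHom K A A)
  let q : DualNumber K →ₐ[K] DualNumber A :=
    { dualMap (algebraMap K A) with
      commutes' := fun c => TrivSqZeroExt.ext rfl (map_zero (algebraMap K A)) }
  let j : DualNumber A →ₐ[K] DualNumber K :=
    { dualMap ε.toRingHom with
      commutes' := fun c => TrivSqZeroExt.ext (ε.commutes c) (map_zero ε) }
  let w : specOver (K := K) (DualNumber A) ⟶ G :=
    (specOverMap p ≫ g) * (specOverMap q ≫ specOverMap lam ≫ g)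
  have hg : ∀ {B : Type u} [CommRing B] [Algebra K B] (f₁ f₂ : A →ₐ[K] B),
      f₁ = f₂ → specOverMap f₁ ≫ g = specOverMap f₂ ≫ g := fun f₁ f₂ h => h ▸ rfl
  have comp : ∀ {B C : Type u} [CommRing B] [Algebra K B] [CommRing C] [Algebra K C]
      (f₁ : A →ₐ[K] B) (f₂ : B →ₐ[K] C),
      specOverMap f₂ ≫ specOverMap f₁ ≫ g = specOverMap (f₂.comp f₁) ≫ g := by
    intro B C _ _ _ _ f₁ f₂
    rw [← Category.assoc]
    congr 1
    ext1
    exact (Spec.map_comp _ _).symm
  have unit_eq : ∀ {B : Type u} [CommRing B] [Algebra K B],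
      specOverMap ((Algebra.ofId K B).comp ε) ≫ g = 1 := by
    intro B _ _
    rw [GrpSch.one_eq_toUnit]
    ext1
    change Spec.map (CommRingCat.ofHom ((Algebra.ofId K B).toRingHom.comp ε.toRingHom)) ≫
      G.left.fromSpecStalk e = Spec.map _ ≫ η[G].left
    conv_rhs => rw [← hε₀]
    rw [CommRingCat.ofHom_comp, Spec.map_comp, Category.assoc]
    rfl
  -- reduction modulo `ε`
  have h₁ : specOverMap r ≫ w = g := by
    simp only [w, MonObj.comp_mul, ← Category.assoc (specOverMap r) (specOverMap q)]
    rw [comp, show r.comp p = AlgHom.id K A from AlgHom.ext fun _ => rfl]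
    have hrq : r.comp (q.comp lam) = (Algebra.ofId K A).comp ε := AlgHom.ext fun _ => rfl
    rw [Category.assoc, comp, comp, hrq, unit_eq, _root_.mul_one]
    ext1
    change Spec.map (CommRingCat.ofHom (RingHom.id A)) ≫ _ = _
    rw [CommRingCat.ofHom_id, Spec.map_id, Category.id_comp]
  have h₂ : specOverMap j ≫ w = specOverMap lam ≫ g := by
    simp only [w, MonObj.comp_mul, ← Category.assoc (specOverMap j) (specOverMap q)]
    rw [comp, show j.comp p = (Algebra.ofId K (DualNumber K)).comp ε from
      AlgHom.ext fun a => TrivSqZeroExt.ext rfl (map_zero ε), unit_eq, _root_.one_mul]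
    rw [Category.assoc, comp, comp]
    refine hg _ _ (AlgHom.ext fun a => TrivSqZeroExt.ext ?_ ?_)
    · exact ε.commutes _
    · exact ε.commutes _
  have : IsLocalRing (DualNumber A) := isLocalRing_dualNumber A
  have hpt : w.left (IsLocalRing.closedPoint (DualNumber A)) = e := by
    have hr : IsLocalHom (CommRingCat.ofHom r.toRingHom).hom :=
      ⟨fun a ha => TrivSqZeroExt.isUnit_iff_isUnit_fst.2 ha⟩
    have : (specOverMap r).left (IsLocalRing.closedPoint A) =
        IsLocalRing.closedPoint (DualNumber A) :=
      IsLocalRing.comap_closedPoint r.toRingHom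
    rw [← this, ← GrpSch.comp_left_apply, h₁]
    exact Scheme.fromSpecStalk_closedPoint
  obtain ⟨ψ, hψ, -⟩ := exists_factor (R := CommRingCat.of (DualNumber A)) w.left e hpt
  have hr' : ψ ≫ CommRingCat.ofHom r.toRingHom = 𝟙 A := Spec.map_injective <| by
    rw [← cancel_mono (G.left.fromSpecStalk e), Spec.map_comp, Category.assoc, hψ, Spec.map_id]
    exact (congr(($h₁).left)).trans (Category.id_comp _).symm
  have hj' : ψ ≫ CommRingCat.ofHom j.toRingHom = CommRingCat.ofHom lam.toRingHom :=
    Spec.map_injective <| by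
      rw [← cancel_mono (G.left.fromSpecStalk e), Spec.map_comp, Category.assoc, hψ]
      exact congr(($h₂).left)
  have hfst : ∀ a, (ψ a).fst = a := fun a => congr($hr' a)
  have hφψ : φ ≫ ψ = CommRingCat.ofHom (algebraMap K (DualNumber A)) := Spec.map_injective <| by
    rw [Spec.map_comp, hφ, ← Category.assoc, hψ]
    exact Over.w w
  let D₀ : A →ₗ[K] A :=
    { toFun := fun a => (ψ a).snd
      map_add' := fun a b => by simp
      map_smul' := fun c a => by
        have : ψ (φ c) = algebraMap K (DualNumber A) c := congr($hφψ c)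
        change (ψ (φ c * a)).snd = φ c * (ψ a).snd
        rw [map_mul, DualNumber.snd_mul, this, hfst]
        change φ c * (ψ a).snd + 0 * a = _
        rw [zero_mul, add_zero] }
  refine ⟨Derivation.mk' D₀ fun a b => ?_, fun a => ?_⟩
  · change (ψ (a * b)).snd = a * (ψ b).snd + b * (ψ a).snd
    rw [map_mul, DualNumber.snd_mul, hfst, hfst]
    ring
  · exact congr(TrivSqZeroExt.snd ($hj' a))

end Groth.Agent.Cartier
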